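import Cfsg.Agent.LFType23.Dbar
import Cfsg.Agent.Lib.PGroup.Basic

/-!
An elementary subgroup of order eight and the 2-core of its centraliser (helper5).
-/
set_option autoImplicit false

namespace Cfsg.Agent.LFType5

open Cfsg.Agent.LFType23
open scoped commutatorElement

/-- Four standard facts about the scalar multiples of the all-ones vector. -/
theorem line_vec : ∀ c d : F4, qf (sc c one6) = 0 ∧ bf (sc c one6) (sc d one6) = 0 := by decide +kernel

theorem tot_line : ∀ c : F4, tot (sc c one6) = 0 := by decide +kernel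

theorem dSet_diff : ∀ (g : ZMod 3) (a : F4) (b : Fin 4 → ZMod 2) (i : Fin 6),
    dSet (rot g (1, 0)) a b i + dSet (rot g (1, 0)) a b 0 = 0 ∨
      dSet (rot g (1, 0)) a b i + dSet (rot g (1, 0)) a b 0 = rot g (1, 0) := by decide +kernel

theorem om_diff : ∀ (g : ZMod 3) (d : F4), (d = 0 ∨ d = rot g (1, 0)) →
    (om1 d = 0 ∨ om1 d = rot g (1, 0)) → d = 0 := by decide

/-- Vectors whose two multiples lie in the intersection are constant. -/
theorem const_of_dSet {g : ZMod 3} {w : V} {a a' : F4} {b b' : Fin 4 → ZMod 2}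
    (h : dSet (rot g (1, 0)) a b = w) (h' : dSet (rot g (1, 0)) a' b' = om w) : ∃ c, w = sc c one6 := by
  refine ⟨w 0, funext fun i => ?_⟩
  have h1 := dSet_diff g a b i
  have h2 := dSet_diff g a' b' i
  rw [h] at h1
  rw [h', show om w i + om w 0 = om1 (w i + w 0) from (om1_add _ _).symm] at h2
  have h3 := om_diff g _ h1 h2
  have key : ∀ p q : F4, p + q = 0 → p = fm q (1, 0) := by decide
  exact key _ _ h3

theorem const_of_perp {w : V} (h : ∀ u, tot u = 0 → bf w u = 0) : ∃ c, w = sc c one6 := by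
  refine ⟨w 0, funext fun i => ?_⟩
  have e : ∀ (j : Fin 6) (y : F4), bf w (Pi.single j y) = (w j).1 * y.2 + (w j).2 * y.1 := by
    intro j y
    rw [bf, Finset.sum_eq_single j]
    · simp
    · intro k _ hk; simp [hk]
    · simp
  have hk : ∀ y : F4, (w i).1 * y.2 + (w i).2 * y.1 + ((w 0).1 * y.2 + (w 0).2 * y.1) = 0 := fun y => by
    rw [← e, ← e, ← bf_add_right]
    refine h _ ?_
    rw [tot_add]
    have : ∀ (j : Fin 6), tot (Pi.single j y : V) = y := fun j => by simp [tot]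
    rw [this, this]
    revert y; decide
  have k1 := hk (1, 0)
  have k2 := hk (0, 1)
  show w i = fm (w 0) (1, 0)
  revert k1 k2
  generalize w i = p; generalize w 0 = q
  revert p q; decide

variable {G : Type*} [Group G] {z s : G} {Q Qs : Subgroup G}

/-- The preimage of the line through the all-ones vector. -/
def line (F : Frame z Q) : Subgroup G where
  carrier := {a | a ∈ Q ∧ ∃ c, F.mu a = sc c one6}
  mul_mem' := by
    rintro a b ⟨ha, c, hc⟩ ⟨hb, d, hd⟩
    exact ⟨mul_mem ha hb, c + d, by rw [F.mu_mul a ha b hb, hc, hd, sc_add_left]⟩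
  one_mem' := ⟨one_mem _, 0, by rw [F.mu_one, sc_fixed_zero]⟩
  inv_mem' := by
    rintro a ⟨ha, c, hc⟩
    exact ⟨inv_mem ha, c, by rw [F.mu_inv ha, hc]⟩

/-- The standard pair with an element acting as the scalar. -/
structure Cfg (F : Frame z Q) (Fs : Frame s Qs) (γ : ZMod 3) (x : G) : Prop where
  std : Std F Fs γ
  xc : Commute x z
  xact : ∀ u, F.pi x u = om u

namespace Cfg

variable [Finite G] {F : Frame z Q} {Fs : Frame s Qs} {γ : ZMod 3} {x : G} (C : Cfg F Fs γ x)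
include C

theorem mem_line {a : G} : a ∈ line F ↔ a ∈ Q ∧ ∃ c, F.mu a = sc c one6 := Iff.rfl

theorem z_line : z ∈ line F := ⟨F.z_mem, 0, by rw [F.mu_z, sc_fixed_zero]⟩

theorem s_line : s ∈ line F := ⟨C.std.link.mem, (1, 0), by rw [C.std.vec, sc_one]⟩

theorem s'_memQ : x * s * x⁻¹ ∈ Q := F.normal x C.xc s C.std.link.mem

theorem mu_s' : F.mu (x * s * x⁻¹) = om one6 := by rw [F.pi_mu x C.xc s C.std.link.mem, C.std.vec, C.xact]

theorem s'_line : x * s * x⁻¹ ∈ line F := ⟨C.s'_memQ, (0, 1), by rw [C.mu_s', sc_eq]; simp⟩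

theorem line_cases {a : G} (ha : a ∈ line F) : ∃ b, (a = b ∨ a = b * z) ∧
    (b = 1 ∨ b = s ∨ b = x * s * x⁻¹ ∨ b = s * (x * s * x⁻¹)) := by
  obtain ⟨haQ, c, hc⟩ := ha
  rcases sc_mem_cases one6 c with h | h | h | h <;> rw [h] at hc
  · exact ⟨1, (F.mu_eq_iff haQ (one_mem _)).1 (hc.trans F.mu_one.symm), Or.inl rfl⟩
  · exact ⟨s, (F.mu_eq_iff haQ C.std.link.mem).1 (hc.trans C.std.vec.symm), Or.inr (Or.inl rfl)⟩
  · exact ⟨_, (F.mu_eq_iff haQ C.s'_memQ).1 (hc.trans C.mu_s'.symm), Or.inr (Or.inr (Or.inl rfl))⟩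
  · exact ⟨_, (F.mu_eq_iff haQ (mul_mem C.std.link.mem C.s'_memQ)).1 (hc.trans (by
      rw [F.mu_mul _ C.std.link.mem _ C.s'_memQ, C.std.vec, C.mu_s'])), Or.inr (Or.inr (Or.inr rfl))⟩

theorem line_le_Qs : line F ≤ Qs := by
  have hs' : x * s * x⁻¹ ∈ Qs := by
    obtain ⟨d, hd, hd', e⟩ := C.std.link.mem_dbar.1 C.std.om_one_mem
    rcases (F.mu_eq_iff C.s'_memQ hd).1 (C.mu_s'.trans e.symm) with h | h <;> rw [h]
    exacts [hd', mul_mem hd' C.std.link.z_mem]
  intro a ha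
  obtain ⟨b, hab, hb⟩ := C.line_cases ha
  have : b ∈ Qs := by
    rcases hb with rfl | rfl | rfl | rfl
    exacts [one_mem _, Fs.z_mem, hs', mul_mem Fs.z_mem hs']
  rcases hab with rfl | rfl
  exacts [this, mul_mem this C.std.link.z_mem]

theorem line_sq {a : G} (ha : a ∈ line F) : a * a = 1 := by
  obtain ⟨haQ, c, hc⟩ := ha
  exact (F.sq_eq_one_iff haQ).2 (by rw [hc]; exact (line_vec c c).1)

theorem line_comm {a b : G} (ha : a ∈ line F) (hb : b ∈ line F) : Commute a b := by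
  obtain ⟨haQ, c, hc⟩ := ha
  obtain ⟨hbQ, d, hd⟩ := hb
  exact (F.commute_iff haQ hbQ).2 (by rw [hc, hd]; exact (line_vec c d).2)

theorem card_line : Nat.card (line F) = 8 := by
  classical
  set s' := x * s * x⁻¹
  let r : F4 → G := fun c => (if c.1 = 0 then 1 else s) * (if c.2 = 0 then 1 else s')
  have hr : ∀ c, r c ∈ Q ∧ F.mu (r c) = sc c one6 := fun c => by
    have h1 : (if c.1 = 0 then (1 : G) else s) ∈ Q := by split_ifs; exacts [one_mem _, C.std.link.mem]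
    have h2 : (if c.2 = 0 then (1 : G) else s') ∈ Q := by split_ifs; exacts [one_mem _, C.s'_memQ]
    refine ⟨mul_mem h1 h2, ?_⟩
    rw [F.mu_mul _ h1 _ h2, sc_eq]
    split_ifs <;> simp only [F.mu_one, C.std.vec, show F.mu s' = om one6 from C.mu_s']
  let f : F4 × Bool → line F := fun p =>
    if p.2 then ⟨r p.1 * z, mul_mem (hr p.1).1 F.z_mem, p.1, by rw [F.mu_mul_z (hr p.1).1, (hr p.1).2]⟩
    else ⟨r p.1, (hr p.1).1, p.1, (hr p.1).2⟩
  have hval : ∀ p, F.mu (f p : G) = sc p.1 one6 := by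
    rintro ⟨c, b⟩
    cases b
    · exact (hr c).2
    · exact (F.mu_mul_z (hr c).1).trans (hr c).2
  have hinj : Function.Injective f := by
    rintro ⟨c, b⟩ ⟨d, b'⟩ e
    have h1 := (hval (c, b)).symm.trans ((congrArg (fun y : line F => F.mu (y : G)) e).trans (hval (d, b')))
    have hcd : c = d := by
      have := congrFun h1 0
      have key : ∀ c d : F4, fm c (1, 0) = fm d (1, 0) → c = d := by decide
      exact key c d this
    subst hcd
    have h2 := congrArg (fun y : line F => (y : G)) e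
    cases b <;> cases b' <;> simp [f, F.z_ne] at h2 ⊢
  have hsur : Function.Surjective f := by
    rintro ⟨a, haQ, c, hc⟩
    rcases (F.mu_eq_iff haQ (hr c).1).1 (hc.trans (hr c).2.symm) with h | h
    · exact ⟨(c, false), Subtype.ext h.symm⟩
    · exact ⟨(c, true), Subtype.ext h.symm⟩
  rw [← Nat.card_congr (Equiv.ofBijective f ⟨hinj, hsur⟩), Nat.card_prod,
    Nat.card_eq_fintype_card (α := Bool), Fintype.card_bool, Nat.card_eq_fintype_card]
  simp [Fintype.card_prod, ZMod.card]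

/-- The centraliser of the elementary subgroup. -/
def cenV (_C : Cfg F Fs γ x) : Subgroup G := Subgroup.centralizer (line F : Set G)

theorem mem_cenV {k : G} :
    k ∈ C.cenV ↔ Commute k z ∧ Commute k s ∧ Commute k (x * s * x⁻¹) := by
  rw [cenV, Subgroup.mem_centralizer_iff]
  constructor
  · intro h
    exact ⟨(h z C.z_line).symm, (h s C.s_line).symm, (h _ C.s'_line).symm⟩
  · rintro ⟨h1, h2, h3⟩ a ha
    obtain ⟨b, hab, hb⟩ := C.line_cases ha
    have hkb : Commute k b := by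
      rcases hb with rfl | rfl | rfl | rfl
      exacts [Commute.one_right k, h2, h3, h2.mul_right h3]
    rcases hab with rfl | rfl
    exacts [hkb.symm.eq, (hkb.mul_right h1).symm.eq]

theorem comm_z {k : G} (hk : k ∈ C.cenV) : Commute k z := (C.mem_cenV.1 hk).1

theorem comm_line {k a : G} (hk : k ∈ C.cenV) (ha : a ∈ line F) : Commute k a := by
  rw [cenV, Subgroup.mem_centralizer_iff] at hk
  exact (hk a ha).symm

theorem fix_one {k : G} (hk : k ∈ C.cenV) : F.pi k one6 = one6 := by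
  rw [← C.std.vec, ← F.pi_mu k (C.comm_z hk) s C.std.link.mem, (C.mem_cenV.1 hk).2.1.eq, mul_inv_cancel_right]

theorem fix_om {k : G} (hk : k ∈ C.cenV) : F.pi k (om one6) = om one6 := by
  rw [← C.mu_s', ← F.pi_mu k (C.comm_z hk) _ C.s'_memQ, (C.mem_cenV.1 hk).2.2.eq, mul_inv_cancel_right]

theorem lin_of_mem {k : G} (hk : k ∈ C.cenV) : F.Lin k := by
  rcases F.lin_or k (C.comm_z hk) with h | h
  · exact h
  · exfalso
    have e := h one6
    rw [C.fix_one hk, C.fix_om hk] at e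
    exact absurd e (by decide)

theorem inter_cenV {a : G} (ha : a ∈ Q) : a ∈ C.cenV ↔ tot (F.mu a) = 0 := by
  rw [C.mem_cenV, tot_eq_zero_iff, F.commute_iff ha C.std.link.mem, F.commute_iff ha C.s'_memQ, C.std.vec, C.mu_s']
  exact and_iff_right (F.le_cent a ha)

theorem line_le_cenV : line F ≤ C.cenV := fun a ha => by
  rw [C.inter_cenV ha.1]
  obtain ⟨c, hc⟩ := ha.2
  rw [hc]; exact tot_line c

theorem card_inter_cenV : Nat.card (Q ⊓ C.cenV : Subgroup G) = 2 ^ 11 := by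
  let χ : Q →* Multiplicative F4 := MonoidHom.mk' (fun a => Multiplicative.ofAdd (tot (F.mu (a : G))))
    fun a b => by rw [Subgroup.coe_mul, F.mu_mul _ a.2 _ b.2, tot_add, ofAdd_add]
  have hs : Function.Surjective χ := fun y => by
    obtain ⟨c, rfl⟩ := Multiplicative.ofAdd.surjective y
    obtain ⟨a, ha, e⟩ := F.mu_surj (Pi.single 0 c)
    exact ⟨⟨a, ha⟩, congrArg Multiplicative.ofAdd (by rw [e]; simp [tot])⟩
  have hk : χ.ker.map Q.subtype = Q ⊓ C.cenV := by
    ext a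
    constructor
    · rintro ⟨r, hr, rfl⟩
      exact ⟨r.2, (C.inter_cenV r.2).2 (congrArg Multiplicative.toAdd (MonoidHom.mem_ker.1 hr))⟩
    · rintro ⟨ha, ha'⟩
      exact ⟨⟨a, ha⟩, MonoidHom.mem_ker.2 (congrArg Multiplicative.ofAdd ((C.inter_cenV ha).1 ha')), rfl⟩
  rw [← hk, Subgroup.card_map_of_injective Q.subtype_injective]
  have h := χ.ker.card_mul_index
  rw [Subgroup.index_ker, MonoidHom.range_eq_top.2 hs, Subgroup.card_top, Nat.card_congr Multiplicative.toAdd,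
    Nat.card_prod, Nat.card_zmod, F.card_le] at h
  omega

theorem qsK_card : 2 ^ 11 ≤ Nat.card (Qs ⊓ C.cenV : Subgroup G) := by
  have hs' : x * s * x⁻¹ ∈ Qs := C.line_le_Qs C.s'_line
  let χ : C.std.link.cen →* Multiplicative (ZMod 2) := MonoidHom.mk'
    (fun a => Multiplicative.ofAdd (bf (Fs.mu (a : G)) (Fs.mu (x * s * x⁻¹)))) fun a b => by
      rw [Subgroup.coe_mul, Fs.mu_mul _ (C.std.link.mem_cen.1 a.2).1 _ (C.std.link.mem_cen.1 b.2).1, bf_add_left,
        ofAdd_add]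
  have hk : χ.ker.map C.std.link.cen.subtype ≤ Qs ⊓ C.cenV := by
    rintro _ ⟨r, hr, rfl⟩
    obtain ⟨hrR, hrz⟩ := C.std.link.mem_cen.1 r.2
    exact ⟨hrR, C.mem_cenV.2 ⟨hrz, Fs.le_cent _ hrR,
      (Fs.commute_iff hrR hs').2 (congrArg Multiplicative.toAdd (MonoidHom.mem_ker.1 hr))⟩⟩
  have h1 := Subgroup.card_le_of_le hk
  rw [Subgroup.card_map_of_injective C.std.link.cen.subtype_injective] at h1
  have h := χ.ker.card_mul_index
  have h2 : χ.ker.index ≤ 2 := by
    rw [Subgroup.index_ker]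
    refine (Nat.le_of_dvd Nat.card_pos (Subgroup.card_subgroup_dvd_card _)).trans (le_of_eq ?_)
    rw [Nat.card_congr Multiplicative.toAdd, Nat.card_zmod]
  rw [C.std.link.card_cen] at h
  nlinarith

/-- The 2-core of the centraliser. -/
def core (_C : Cfg F Fs γ x) : Subgroup G :=
  _C.cenV ⊓ (_C.std.link.wgrp.comap F.permHom).map (Subgroup.centralizer ({z} : Set G)).subtype

theorem core_le : C.core ≤ C.cenV := inf_le_left

theorem mem_core {k : G} :
    k ∈ C.core ↔ k ∈ C.cenV ∧ ∃ a ∈ Qs, Commute a z ∧ ∀ u, F.pi k u = F.pi a u := by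
  rw [core, Subgroup.mem_inf]
  refine and_congr_right fun hk => ?_
  constructor
  · rintro ⟨c, hc, rfl⟩
    exact C.std.link.mem_wgrp.1 hc
  · intro h
    exact ⟨⟨k, Subgroup.mem_centralizer_singleton_iff.2 (C.comm_z hk)⟩, C.std.link.mem_wgrp.2 h, rfl⟩

theorem interQ_le_core : Q ⊓ C.cenV ≤ C.core := fun a ha =>
  C.mem_core.2 ⟨ha.2, 1, one_mem _, Commute.one_left z, fun u => by rw [F.pi_one, F.pi_eq_self_of_mem ha.1]⟩

theorem interQs_le_core : Qs ⊓ C.cenV ≤ C.core := fun a ha =>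
  C.mem_core.2 ⟨ha.2, a, ha.1, C.comm_z ha.2, fun u => rfl⟩

/-- The image of a subgroup of the centraliser. -/
def img (_C : Cfg F Fs γ x) (H : Subgroup G) : Subgroup (Equiv.Perm V) :=
  (H.subgroupOf (Subgroup.centralizer ({z} : Set G))).map F.permHom

theorem le_cenZ {H : Subgroup G} (h : H ≤ C.cenV) : H ≤ Subgroup.centralizer ({z} : Set G) := fun a ha =>
  Subgroup.mem_centralizer_singleton_iff.2 (C.comm_z (h ha))

theorem img_facts : Nat.card (C.img C.core) = 16 ∧ C.img (Qs ⊓ C.cenV) = C.img C.core := by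
  classical
  have hw : C.img C.core ≤ C.std.link.wgrp := by
    rintro _ ⟨a, ha, rfl⟩
    exact C.std.link.mem_wgrp.2 (C.mem_core.1 ha).2
  have hne : C.img C.core ≠ C.std.link.wgrp := by
    intro e
    obtain ⟨a, ha, hnl⟩ := C.std.exists_nonlin
    obtain ⟨haR, haz⟩ := C.std.link.mem_cen.1 ha
    have : F.permHom ⟨a, Subgroup.mem_centralizer_singleton_iff.2 haz⟩ ∈ C.img C.core := by
      rw [e]; exact C.std.link.mem_wgrp.2 ⟨a, haR, haz, fun u => rfl⟩
    obtain ⟨k, hk, ek⟩ := this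
    refine hnl fun u => ?_
    have hl := C.lin_of_mem (C.core_le hk)
    have e1 : ∀ u, F.pi a u = F.pi (k : G) u := fun u => (congrArg (fun p : Equiv.Perm V => p u) ek).symm
    rw [e1, e1]; exact hl u
  have hle : Nat.card (C.img C.core) ≤ 16 := by
    have hd := Subgroup.card_dvd_of_le hw
    rw [C.std.card_w_dbar.1] at hd
    have hlt : Nat.card (C.img C.core) < 32 := by
      by_contra hge
      push Not at hge
      refine hne (Subgroup.eq_of_le_of_card_ge hw ?_)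
      rw [C.std.card_w_dbar.1]; exact hge
    obtain ⟨k, hk, e⟩ := (Nat.dvd_prime_pow Nat.prime_two).1 (show _ ∣ 2 ^ 5 from hd)
    rw [e] at hlt ⊢
    interval_cases k <;> simp_all
  have hs : C.img (Qs ⊓ C.cenV) ≤ C.img C.core := Subgroup.map_mono fun a ha => C.interQs_le_core ha
  have h1 := C.std.link.card_image (Qs ⊓ C.cenV) (C.le_cenZ inf_le_right)
  have h2 : Nat.card (Q ⊓ (Qs ⊓ C.cenV) : Subgroup G) ≤ 128 := by
    refine (Subgroup.card_le_of_le (show Q ⊓ (Qs ⊓ C.cenV) ≤ Q ⊓ Qs from inf_le_inf_left Q inf_le_left)).trans ?_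
    rw [C.std.link.card_inter, C.std.card_w_dbar.2]
  have h3 := C.qsK_card
  have h4 : 16 ≤ Nat.card (C.img (Qs ⊓ C.cenV)) := by
    change Nat.card (C.img (Qs ⊓ C.cenV)) * _ = _ at h1
    nlinarith
  have h5 := Subgroup.card_le_of_le hs
  exact ⟨by omega, Subgroup.eq_of_le_of_card_ge hs (by omega)⟩

theorem card_core : Nat.card C.core = 2 ^ 15 := by
  have h := C.std.link.card_image C.core (C.le_cenZ C.core_le)
  change Nat.card (C.img C.core) * _ = _ at h
  have e : Q ⊓ C.core = Q ⊓ C.cenV :=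
    le_antisymm (inf_le_inf_left Q C.core_le) (le_inf inf_le_left C.interQ_le_core)
  rw [C.img_facts.1, e, C.card_inter_cenV] at h
  omega

theorem isPGroup_core : IsPGroup 2 C.core := IsPGroup.of_card C.card_core

theorem decomp {r : G} (hr : r ∈ C.core) : ∃ y b, y ∈ Q ⊓ C.cenV ∧ b ∈ Qs ⊓ C.cenV ∧ r = y * b := by
  have hk := C.core_le hr
  have : F.permHom ⟨r, Subgroup.mem_centralizer_singleton_iff.2 (C.comm_z hk)⟩ ∈ C.img (Qs ⊓ C.cenV) := by
    rw [C.img_facts.2]; exact ⟨_, hr, rfl⟩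
  obtain ⟨b, hb0, e⟩ := this
  have hb : (b : G) ∈ Qs ⊓ C.cenV := hb0
  refine ⟨r * (b : G)⁻¹, b, ⟨?_, C.cenV.mul_mem hk (C.cenV.inv_mem hb.2)⟩, hb, by group⟩
  have hbz : Commute (b : G) z := C.comm_z hb.2
  refine F.faithful _ ((C.comm_z hk).mul_left hbz.inv_left) fun u => ?_
  rw [F.pi_mul (C.comm_z hk) hbz.inv_left]
  have e1 : F.pi r (F.pi (b : G)⁻¹ u) = F.pi (b : G) (F.pi (b : G)⁻¹ u) :=
    (congrArg (fun p : Equiv.Perm V => p (F.pi (b : G)⁻¹ u)) e).symm
  rw [e1, ← F.pi_mul hbz hbz.inv_left, mul_inv_cancel, F.pi_one]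

theorem mixed {y b : G} (hy : y ∈ Q ⊓ C.cenV) (hb : b ∈ Qs ⊓ C.cenV) : ⁅b, y⁆ ∈ line F := by
  have hys : Commute y s := (C.mem_cenV.1 hy.2).2.1
  obtain ⟨h1, h2⟩ := C.std.link.bracket hb.1 (C.comm_z hb.2) hy.1 hys
  rw [← commutatorElement_def] at h1 h2
  have e : F.mu ⁅b, y⁆ = F.pi b (F.mu y) + F.mu y := by
    rw [commutatorElement_def, F.mu_mul _ (F.normal b (C.comm_z hb.2) y hy.1) _ (inv_mem hy.1), F.mu_inv hy.1,
      F.pi_mu b (C.comm_z hb.2) y hy.1]
  have hd : F.mu ⁅b, y⁆ ∈ C.std.link.dbar := ⟨_, h1, h2, rfl⟩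
  have hom : om (F.mu ⁅b, y⁆) ∈ C.std.link.dbar := by
    have h0 := (C.inter_cenV hy.1).1 hy.2
    have ht : bf (om (F.mu y)) (F.mu s) = 0 := by
      have e0 : tot (om (F.mu y)) = om1 (tot (F.mu y)) :=
        (map_sum (AddMonoidHom.mk' om1 om1_add) _ _).symm
      rw [C.std.vec, ((tot_eq_zero_iff (om (F.mu y))).1 (by rw [e0, h0]; decide)).1]
    have := C.std.link.shift hb.1 (C.comm_z hb.2) ht
    rwa [C.lin_of_mem hb.2, ← om_add, ← e] at this
  obtain ⟨a1, b1, e1⟩ := (C.std.mem_dbar_iff _).1 hd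
  obtain ⟨a2, b2, e2⟩ := (C.std.mem_dbar_iff _).1 hom
  exact ⟨h1, const_of_dSet e1 e2⟩

theorem inQ {y y' : G} (hy : y ∈ Q) (hy' : y' ∈ Q) : ⁅y, y'⁆ ∈ line F := by
  rw [commutatorElement_def, F.comm y hy y' hy']
  split_ifs
  · rw [mul_inv_cancel]; exact one_mem _
  · rw [(F.le_cent y' hy').eq, mul_inv_cancel_right]; exact C.z_line

theorem inQs {y y' : G} (hy : y ∈ Qs) (hy' : y' ∈ Qs) : ⁅y, y'⁆ ∈ line F := by
  rw [commutatorElement_def, Fs.comm y hy y' hy']
  split_ifs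
  · rw [mul_inv_cancel]; exact one_mem _
  · rw [(Fs.le_cent y' hy').eq, mul_inv_cancel_right]; exact C.s_line

theorem comm_core {r t : G} (hr : r ∈ C.core) (ht : t ∈ C.core) : ⁅r, t⁆ ∈ line F := by
  have hleft : ∀ {a b c : G}, a ∈ C.cenV → ⁅b, c⁆ ∈ line F → ⁅a, c⁆ ∈ line F → ⁅a * b, c⁆ ∈ line F := by
    intro a b c ha h1 h2
    rw [show ⁅a * b, c⁆ = a * ⁅b, c⁆ * a⁻¹ * ⁅a, c⁆ by simp only [commutatorElement_def]; group,
      (C.comm_line ha h1).eq, mul_inv_cancel_right]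
    exact mul_mem h1 h2
  have hsymm : ∀ {a b : G}, ⁅a, b⁆ ∈ line F → ⁅b, a⁆ ∈ line F := fun {a b} h => by
    rw [← commutatorElement_inv]; exact inv_mem h
  obtain ⟨y, b, hy, hb, rfl⟩ := C.decomp hr
  obtain ⟨y', b', hy', hb', rfl⟩ := C.decomp ht
  refine hleft hy.2 (hsymm (hleft hy'.2 (hsymm (C.inQs hb.1 hb'.1)) (hsymm (C.mixed hy' hb))))
    (hsymm (hleft hy'.2 (C.mixed hy hb') (hsymm (C.inQ hy.1 hy'.1))))

theorem sq_core {r : G} (hr : r ∈ C.core) : r * r ∈ line F := by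
  obtain ⟨y, b, hy, hb, rfl⟩ := C.decomp hr
  rw [show y * b * (y * b) = (y * y) * ⁅y⁻¹, b⁆ * (b * b) by simp only [commutatorElement_def]; group]
  refine mul_mem (mul_mem ?_ ?_) ?_
  · rw [F.sq y hy.1]; split_ifs
    exacts [one_mem _, C.z_line]
  · rw [← commutatorElement_inv]; exact inv_mem (C.mixed (inv_mem hy) hb)
  · rw [Fs.sq b hb.1]; split_ifs
    exacts [one_mem _, C.s_line]

theorem z_mem_comm : z ∈ ⁅C.core, C.core⁆ := by
  obtain ⟨y, hy, ey⟩ := F.mu_surj (pr 0 1)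
  obtain ⟨y', hy', ey'⟩ := F.mu_surj (sc (0, 1) (pr 0 2))
  have h1 : y ∈ C.cenV := (C.inter_cenV hy).2 (by rw [ey]; decide)
  have h2 : y' ∈ C.cenV := (C.inter_cenV hy').2 (by rw [ey']; decide)
  have e : ⁅y, y'⁆ = z := by
    rw [commutatorElement_def, F.comm y hy y' hy', ey, ey', if_neg (by decide), (F.le_cent y' hy').eq,
      mul_inv_cancel_right]
  have h3 := Subgroup.commutator_mem_commutator (C.interQ_le_core ⟨hy, h1⟩) (C.interQ_le_core ⟨hy', h2⟩)
  convert h3 using 1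
  exact e.symm

theorem center_core {r : G} (hr : r ∈ C.core) (hc : ∀ t ∈ C.core, Commute r t) : r ∈ line F := by
  have hk := C.core_le hr
  have hfix : ∀ u, tot u = 0 → F.pi r u = u := by
    intro u hu
    obtain ⟨y, hy, rfl⟩ := F.mu_surj u
    rw [← F.pi_mu r (C.comm_z hk) y hy, (hc y (C.interQ_le_core ⟨hy, (C.inter_cenV hy).2 hu⟩)).eq,
      mul_inv_cancel_right]
  obtain ⟨y, b, hy, hb, rfl⟩ := C.decomp hr
  have hbz := C.comm_z hb.2
  have e : ∀ u, F.pi (y * b) u = F.pi b u := fun u => by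
    rw [F.pi_mul (F.le_cent y hy.1) hbz, F.pi_eq_self_of_mem hy.1]
  have hid := C.std.lin_moves (a := b) ⟨C.std.link.mem_cen.2 ⟨hb.1, hbz⟩, C.lin_of_mem hb.2⟩
    (c := rot γ (1, 0)) (by have : ∀ g : ZMod 3, rot g (1, 0) ≠ (0 : F4) := by decide
                            exact this γ) C.std.pair_mem fun k hk0 => by
      rw [← e]
      refine hfix _ ?_
      have : ∀ (g : ZMod 3) (k : Fin 6), k ≠ 0 → tot (sc (rot g (1, 0)) (pr k 0)) = 0 := by decide +kernel
      exact this γ k hk0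
  have hrQ : y * b ∈ Q := F.faithful _ (C.comm_z hk) fun u => by rw [e, hid]
  refine ⟨hrQ, const_of_perp fun u hu => ?_⟩
  obtain ⟨t, ht, rfl⟩ := F.mu_surj u
  exact (F.commute_iff hrQ ht).1 (hc t (C.interQ_le_core ⟨ht, (C.inter_cenV ht).2 hu⟩))

theorem line_le_core : line F ≤ C.core := fun a ha => C.interQ_le_core ⟨ha.1, C.line_le_cenV ha⟩

/-- The quotient of the centraliser by its 2-core. -/
theorem exists_phi : ∃ φ : C.cenV →* alternatingGroup (Fin 6), Function.Surjective φ ∧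
    φ.ker = C.core.subgroupOf C.cenV := by
  classical
  obtain ⟨φ0, hs0, hk0⟩ := C.std.exists_quot_hom
  let ι : C.cenV →* C.std.link.xgrp :=
    MonoidHom.mk' (fun k => ⟨F.permHom ⟨(k : G), C.le_cenZ le_rfl k.2⟩,
      C.std.link.mem_xgrp.2 ⟨k, C.comm_z k.2, by rw [C.std.vec, C.fix_one k.2], fun u => rfl⟩⟩)
      fun a b => Subtype.ext (map_mul F.permHom ⟨(a : G), C.le_cenZ le_rfl a.2⟩ ⟨(b : G), C.le_cenZ le_rfl b.2⟩)
  refine ⟨φ0.comp ι, fun a => ?_, ?_⟩
  · obtain ⟨f, rfl⟩ := hs0 a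
    obtain ⟨w, hw, σ, e⟩ := C.std.exists_decomp f.2
    obtain ⟨h, hh, he⟩ := F.perm_mem (σ : Equiv.Perm (Fin 6))⁻¹ (by
      rw [map_inv, Equiv.Perm.mem_alternatingGroup.1 σ.2, inv_one])
    have h1 : F.pi h one6 = one6 := by rw [he]; rfl
    have h2 : F.pi h (om one6) = om one6 := by rw [he]; rfl
    obtain ⟨p, p', hp, hp'⟩ : ∃ p p' : ZMod 2, h * s * h⁻¹ = (if p = 0 then s else s * z) ∧
        h * (x * s * x⁻¹) * h⁻¹ = (if p' = 0 then x * s * x⁻¹ else x * s * x⁻¹ * z) := by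
      have a1 := (F.mu_eq_iff (F.normal h hh s C.std.link.mem) C.std.link.mem).1
        (by rw [F.pi_mu h hh s C.std.link.mem, C.std.vec, h1])
      have a2 := (F.mu_eq_iff (F.normal h hh _ C.s'_memQ) C.s'_memQ).1
        (by rw [F.pi_mu h hh _ C.s'_memQ, C.mu_s', h2])
      rcases a1 with a1 | a1 <;> rcases a2 with a2 | a2
      exacts [⟨0, 0, by simpa using a1, by simpa using a2⟩, ⟨0, 1, by simpa using a1, by simpa using a2⟩,
        ⟨1, 0, by simpa using a1, by simpa using a2⟩, ⟨1, 1, by simpa using a1, by simpa using a2⟩]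
    obtain ⟨q, hq, eq⟩ := F.mu_surj (Pi.single 0 (p', p))
    have hbf : bf (F.mu q) one6 = p ∧ bf (F.mu q) (om one6) = p' := by
      rw [bf_one6, bf_om_one6, eq]; simp [tot]
    have hqz := F.le_cent q hq
    have hflip : ∀ {y : G} {p : ZMod 2}, y ∈ Q → bf (F.mu q) (F.mu y) = p →
        q * (if p = 0 then y else y * z) * q⁻¹ = y := by
      intro y p hy hb
      have hc := F.comm q hq y hy
      rw [hb] at hc
      split_ifs at hc ⊢ with h0
      · exact hc
      · rw [show q * (y * z) * q⁻¹ = q * y * q⁻¹ * (q * z * q⁻¹) by group, hc, hqz.eq, mul_inv_cancel_right,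
          mul_assoc, F.z_sq, mul_one]
    have hk : q * h ∈ C.cenV := C.mem_cenV.2 ⟨hqz.mul_left hh,
      mul_inv_eq_iff_eq_mul.1 (by
        rw [show q * h * s * (q * h)⁻¹ = q * (h * s * h⁻¹) * q⁻¹ by group, hp]
        exact hflip C.std.link.mem (by rw [C.std.vec]; exact hbf.1)),
      mul_inv_eq_iff_eq_mul.1 (by
        rw [show q * h * (x * s * x⁻¹) * (q * h)⁻¹ = q * (h * (x * s * x⁻¹) * h⁻¹) * q⁻¹ by group, hp']
        exact hflip C.s'_memQ (by rw [C.mu_s']; exact hbf.2))⟩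
    have hs : altHom σ ∈ C.std.link.xgrp := C.std.alt_le ⟨σ, rfl⟩
    refine ⟨⟨q * h, hk⟩, ?_⟩
    have ew : φ0 ⟨w, C.std.link.wgrp_le hw⟩ = 1 := by
      rw [← MonoidHom.mem_ker, hk0]; exact hw
    rw [show f = ⟨w, C.std.link.wgrp_le hw⟩ * ⟨altHom σ, hs⟩ from Subtype.ext e, map_mul, ew, one_mul,
      MonoidHom.comp_apply]
    congr 1
    refine Subtype.ext (Equiv.ext fun u => ?_)
    show F.pi (q * h) u = altHom σ u
    rw [F.pi_mul hqz hh, F.pi_eq_self_of_mem hq, he, altHom_apply]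
  · ext k
    rw [MonoidHom.mem_ker, MonoidHom.comp_apply, ← MonoidHom.mem_ker, hk0, Subgroup.mem_subgroupOf,
      Subgroup.mem_subgroupOf, C.mem_core]
    exact ⟨fun h => ⟨k.2, C.std.link.mem_wgrp.1 h⟩, fun h => C.std.link.mem_wgrp.2 h.2⟩

end Cfg

end Cfsg.Agent.LFType5
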