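import Cfsg.Agent.LFType5.Structure

/-!
The quotient of the normalizer by its 2-core (helper5).
-/
set_option autoImplicit false

namespace Cfsg.Agent.LFType5

open Cfsg Cfsg.Agent.LFType23
open Matrix
open scoped commutatorElement

/-- A transvection over the field with two elements. -/
def tv (i j : Fin 3) (h : i ≠ j) : Matrix.SpecialLinearGroup (Fin 3) (ZMod 2) :=
  Matrix.SpecialLinearGroup.transvection h 1

/-- A matrix permuting the last two coordinates cyclically. -/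
def cyc : Matrix.SpecialLinearGroup (Fin 3) (ZMod 2) := ⟨!![1, 0, 0; 0, 0, 1; 0, 1, 1], by decide⟩

/-- The same matrix, shifted by a transvection. -/
def cyc' : Matrix.SpecialLinearGroup (Fin 3) (ZMod 2) := ⟨!![1, 0, 1; 0, 0, 1; 0, 1, 1], by decide⟩

theorem eq_top_of_gens {H : Subgroup (Matrix.SpecialLinearGroup (Fin 3) (ZMod 2))}
    (h01 : tv 0 1 (by decide) ∈ H) (h02 : tv 0 2 (by decide) ∈ H) (h10 : tv 1 0 (by decide) ∈ H)
    (h12 : tv 1 2 (by decide) ∈ H) (hc : cyc ∈ H ∨ cyc' ∈ H) : H = ⊤ := by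
  have hc0 : cyc ∈ H := by
    rcases hc with h | h
    · exact h
    · have e : cyc = cyc' * tv 0 2 (by decide) := Subtype.ext (by decide +kernel)
      rw [e]; exact mul_mem h h02
  have h21 : tv 2 1 (by decide) ∈ H := by
    have e : tv 2 1 (by decide) * cyc = cyc * tv 1 2 (by decide) := Subtype.ext (by decide +kernel)
    rw [← eq_mul_inv_iff_mul_eq] at e
    rw [e]; exact mul_mem (mul_mem hc0 h12) (inv_mem hc0)
  have hc2 : ∀ {a b : Matrix.SpecialLinearGroup (Fin 3) (ZMod 2)}, a ∈ H → b ∈ H → ⁅a, b⁆ ∈ H := fun {a b} ha hb => by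
    rw [commutatorElement_def]; exact mul_mem (mul_mem (mul_mem ha hb) (inv_mem ha)) (inv_mem hb)
  have h20 : tv 2 0 (by decide) ∈ H := by
    have e := LinearGroup.commutator_transvection (F := ZMod 2) (show (2 : Fin 3) ≠ 1 by decide)
      (show (1 : Fin 3) ≠ 0 by decide) (show (2 : Fin 3) ≠ 0 by decide) 1 1
    rw [mul_one] at e
    have h' := hc2 h21 h10
    simp only [tv] at h' ⊢
    rwa [e] at h'
  refine LinearGroup.eq_top_of_transvection_mem fun i j hij c => ?_
  rcases (by decide : ∀ y : ZMod 2, y = 0 ∨ y = 1) c with rfl | rfl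
  · rw [Matrix.SpecialLinearGroup.transvection_coeff_zero]; exact one_mem _
  · fin_cases i <;> fin_cases j
    all_goals first
      | exact absurd rfl hij
      | exact h01
      | exact h02
      | exact h10
      | exact h12
      | exact h20
      | exact h21

namespace Cfg

variable {G : Type*} [Group G] [Finite G] {z s : G} {Q Qs : Subgroup G}
variable {F : Frame z Q} {Fs : Frame s Qs} {γ : ZMod 3} {x : G} (C : Cfg F Fs γ x)
include C

theorem exists_psi : ∃ ψ : C.nor →* Matrix.SpecialLinearGroup (Fin 3) (ZMod 2),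
    ψ.ker = C.cenV.subgroupOf C.nor ∧
    ∀ (l : C.nor) (A : Matrix.SpecialLinearGroup (Fin 3) (ZMod 2)),
      (∀ j, (l : G) * C.ev (Pi.single j 1) * (l : G)⁻¹ = C.ev ((A : Matrix (Fin 3) (Fin 3) (ZMod 2)).col j)) →
      ψ l = A := by
  classical
  obtain ⟨E, hE⟩ := C.exists_coords
  let cc : C.nor → (Fin 3 → ZMod 2) → (Fin 3 → ZMod 2) := fun l c =>
    E.symm ⟨(l : G) * C.ev c * (l : G)⁻¹, C.conj_line l.2 (C.ev_mem c)⟩
  have hcc : ∀ l c, C.ev (cc l c) = (l : G) * C.ev c * (l : G)⁻¹ := fun l c => by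
    rw [← hE]; simp [cc]
  have hinj : ∀ c d, C.ev c = C.ev d → c = d := fun c d e =>
    E.injective (Subtype.ext (by rw [hE, hE, e]))
  let f : C.nor → (Fin 3 → ZMod 2) →ₗ[ZMod 2] (Fin 3 → ZMod 2) := fun l =>
    (AddMonoidHom.mk' (cc l) fun c d => hinj _ _ (by rw [hcc, C.ev_add, C.ev_add, hcc, hcc]; group)).toZModLinearMap 2
  have hf : ∀ l c, C.ev (f l c) = (l : G) * C.ev c * (l : G)⁻¹ := fun l c => hcc l c
  let M : C.nor → Matrix (Fin 3) (Fin 3) (ZMod 2) := fun l => LinearMap.toMatrix' (f l)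
  have hM : ∀ a b, M (a * b) = M a * M b := fun a b => by
    show LinearMap.toMatrix' _ = LinearMap.toMatrix' _ * LinearMap.toMatrix' _
    rw [← LinearMap.toMatrix'_comp]
    congr 1
    refine LinearMap.ext fun c => hinj _ _ ?_
    rw [hf, LinearMap.comp_apply, hf, hf, Subgroup.coe_mul]; group
  have hM1 : M 1 = 1 := by
    show LinearMap.toMatrix' _ = 1
    rw [← LinearMap.toMatrix'_id]
    congr 1
    refine LinearMap.ext fun c => hinj _ _ ?_
    rw [hf, LinearMap.id_apply, OneMemClass.coe_one]; group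
  have hdet : ∀ l, (M l).det = 1 := fun l => by
    have h := congrArg Matrix.det (hM l l⁻¹)
    rw [mul_inv_cancel, hM1, Matrix.det_one, Matrix.det_mul] at h
    revert h
    generalize (M l).det = a
    generalize (M l⁻¹).det = b
    revert a b; decide
  let ψ : C.nor →* Matrix.SpecialLinearGroup (Fin 3) (ZMod 2) :=
    MonoidHom.mk' (fun l => ⟨M l, hdet l⟩) fun a b => Subtype.ext (hM a b)
  refine ⟨ψ, ?_, fun l A h => Subtype.ext ?_⟩
  · ext l
    rw [MonoidHom.mem_ker, Subgroup.mem_subgroupOf]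
    constructor
    · intro h
      have h0 : M l = M 1 := by rw [hM1]; exact congrArg Subtype.val h
      have h1 : f l = f 1 := LinearMap.toMatrix'.injective h0
      rw [cenV, Subgroup.mem_centralizer_iff]
      intro a ha
      obtain ⟨c, hc⟩ : ∃ c, C.ev c = a := ⟨E.symm ⟨a, ha⟩, by rw [← hE]; simp⟩
      have h2 := hf l c
      rw [h1, hf, OneMemClass.coe_one] at h2
      subst hc
      have h3 : (l : G) * C.ev c * (l : G)⁻¹ = C.ev c := h2.symm.trans (by group)
      exact (mul_inv_eq_iff_eq_mul.1 h3).symm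
    · intro h
      refine Subtype.ext ?_
      show M l = 1
      rw [← hM1]
      show LinearMap.toMatrix' _ = LinearMap.toMatrix' _
      congr 1
      refine LinearMap.ext fun c => hinj _ _ ?_
      rw [hf, hf, OneMemClass.coe_one, (C.comm_line h (C.ev_mem c)).eq]; group
  · ext i j
    show LinearMap.toMatrix' (f l) i j = _
    have e : f l (Pi.single j 1) = (A : Matrix (Fin 3) (Fin 3) (ZMod 2)).col j := hinj _ _ ((hf l _).trans (h j))
    rw [LinearMap.toMatrix'_apply, e]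
    rfl

theorem ev_single0 : C.ev (Pi.single 0 1) = z := by simp [ev, ZMod.val_one]

theorem ev_single1 : C.ev (Pi.single 1 1) = s := by simp [ev, ZMod.val_one]

theorem ev_single2 : C.ev (Pi.single 2 1) = x * s * x⁻¹ := by simp [ev, ZMod.val_one]

theorem ev_of (c : Fin 3 → ZMod 2) (p q r : ZMod 2) (h0 : c 0 = p) (h1 : c 1 = q) (h2 : c 2 = r) :
    C.ev c = z ^ p.val * s ^ q.val * (x * s * x⁻¹) ^ r.val := by
  rw [ev, h0, h1, h2]

theorem act_Q {q y : G} (hq : q ∈ Q) (hy : y ∈ Q) {p : ZMod 2} (h : bf (F.mu q) (F.mu y) = p) :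
    q * y * q⁻¹ = y * z ^ p.val := by
  rw [F.comm q hq y hy, h]
  rcases (by decide : ∀ y : ZMod 2, y = 0 ∨ y = 1) p with rfl | rfl <;> simp [ZMod.val_one]

theorem act_Qs {q y : G} (hq : q ∈ Qs) (hy : y ∈ Qs) {p : ZMod 2} (h : bf (Fs.mu q) (Fs.mu y) = p) :
    q * y * q⁻¹ = y * s ^ p.val := by
  rw [Fs.comm q hq y hy, h]
  rcases (by decide : ∀ y : ZMod 2, y = 0 ∨ y = 1) p with rfl | rfl <;> simp [ZMod.val_one]

theorem exists_sep {d e : V} (hd : d ≠ 0) (he : e ≠ 0) (hne : e ≠ d) : ∃ u, bf u d = 0 ∧ bf u e = 1 := by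
  by_contra hno
  push Not at hno
  rcases perp_one_cases hd (d := e) (fun u hu => by
    rcases (by decide : ∀ y : ZMod 2, y = 0 ∨ y = 1) (bf e u) with h | h
    · exact h
    · exact absurd (by rw [bf_comm]; exact h) (hno u (by rw [bf_comm]; exact hu))) with h | h
  exacts [he h, hne h]

/-- The quotient by the core. -/
theorem exists_quot : ∃ θ : C.nor →* Matrix.SpecialLinearGroup (Fin 3) (ZMod 2) × alternatingGroup (Fin 6),
    Function.Surjective θ ∧ θ.ker = C.core.subgroupOf C.nor := by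
  classical
  obtain ⟨ψ, hψk, hψ⟩ := C.exists_psi
  obtain ⟨φ, hφ, hφk⟩ := C.exists_phi
  let act : C.nor → C.cenV → C.cenV := fun l k => ⟨(l : G) * k * (l : G)⁻¹, C.conj_cenV l.2 k.2⟩
  let N : Subgroup C.nor :=
    { carrier := {l | ∀ k, φ (act l k) = φ k}
      mul_mem' := fun {a b} ha hb k => by
        have e : act (a * b) k = act a (act b k) := Subtype.ext (by simp [act, mul_assoc])
        rw [e, ha, hb]
      one_mem' := fun k => by rw [show act 1 k = k from Subtype.ext (by simp [act])]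
      inv_mem' := fun {a} ha k => by
        have e : act a (act a⁻¹ k) = k := Subtype.ext (by simp [act, mul_assoc])
        conv_rhs => rw [← e, ha] }
  have hN : ∀ (l : C.nor), (∀ k ∈ C.cenV, ⁅(l : G), k⁆ ∈ C.core) → l ∈ N := fun l h k => by
    have h1 : (⟨⁅(l : G), (k : G)⁆, C.core_le (h k k.2)⟩ : C.cenV) ∈ φ.ker := by rw [hφk]; exact h k k.2
    have e : act l k = ⟨⁅(l : G), (k : G)⁆, C.core_le (h k k.2)⟩ * k :=
      Subtype.ext (by simp [act, commutatorElement_def, mul_assoc])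
    rw [e, map_mul, MonoidHom.mem_ker.1 h1, one_mul]
  have comm_mem : ∀ {l : G}, l ∈ C.nor → ∀ {k}, k ∈ C.cenV → ⁅l, k⁆ ∈ C.cenV := fun {l} hl {k} hk => by
    rw [commutatorElement_def]; exact mul_mem (C.conj_cenV hl hk) (inv_mem hk)
  have hQN : ∀ q (hq : q ∈ Q), (⟨q, C.Q_le_nor hq⟩ : C.nor) ∈ N := fun q hq => hN _ fun k hk =>
    C.interQ_le_core ⟨by
      rw [commutatorElement_def, show q * k * q⁻¹ * k⁻¹ = q * (k * q⁻¹ * k⁻¹) by group]
      exact mul_mem hq (F.normal k (C.comm_z hk) _ (inv_mem hq)), comm_mem (C.Q_le_nor hq) hk⟩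
  have hQsN : ∀ q (hq : q ∈ Qs), (⟨q, C.Qs_le_nor hq⟩ : C.nor) ∈ N := fun q hq => hN _ fun k hk =>
    C.interQs_le_core ⟨by
      rw [commutatorElement_def, show q * k * q⁻¹ * k⁻¹ = q * (k * q⁻¹ * k⁻¹) by group]
      exact mul_mem hq (Fs.normal k (C.mem_cenV.1 hk).2.1 _ (inv_mem hq)), comm_mem (C.Qs_le_nor hq) hk⟩
  have hxN : (⟨x, C.x_mem_nor⟩ : C.nor) ∈ N := hN _ fun k hk => by
    have hkz := C.comm_z hk
    refine C.interQ_le_core ⟨F.faithful _ (((C.xc.mul_left hkz).mul_left C.xc.inv_left).mul_left hkz.inv_left)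
      fun u => ?_, comm_mem C.x_mem_nor hk⟩
    rw [commutatorElement_def, F.pi_mul ((C.xc.mul_left hkz).mul_left C.xc.inv_left) hkz.inv_left,
      F.pi_mul (C.xc.mul_left hkz) C.xc.inv_left, F.pi_mul C.xc hkz, C.xact, ← C.lin_of_mem hk,
      ← C.xact, ← F.pi_mul C.xc C.xc.inv_left, mul_inv_cancel, F.pi_one, ← F.pi_mul hkz hkz.inv_left,
      mul_inv_cancel, F.pi_one]
  have hsQ := C.std.link.mem
  have hzQs := C.std.link.z_mem
  have htop : N.map ψ = ⊤ := by
    have key : ∀ (q : G) (hq : q ∈ C.nor), (⟨q, hq⟩ : C.nor) ∈ N → ∀ A : Matrix.SpecialLinearGroup (Fin 3) (ZMod 2),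
        q * z * q⁻¹ = C.ev ((A : Matrix (Fin 3) (Fin 3) (ZMod 2)).col 0) →
        q * s * q⁻¹ = C.ev ((A : Matrix (Fin 3) (Fin 3) (ZMod 2)).col 1) →
        q * (x * s * x⁻¹) * q⁻¹ = C.ev ((A : Matrix (Fin 3) (Fin 3) (ZMod 2)).col 2) → A ∈ N.map ψ := by
      intro q hq hN A e0 e1 e2
      refine ⟨_, hN, hψ _ _ fun j => ?_⟩
      fin_cases j
      · simpa [C.ev_single0] using e0
      · simpa [C.ev_single1] using e1
      · simpa [C.ev_single2] using e2
    have hzc : ∀ q ∈ Q, q * z * q⁻¹ = z := fun q hq => by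
      rw [(F.le_cent q hq).eq, mul_inv_cancel_right]
    have hsc : ∀ q ∈ Qs, q * s * q⁻¹ = s := fun q hq => by
      rw [(Fs.le_cent q hq).eq, mul_inv_cancel_right]
    have hbq : ∀ (p p' : ZMod 2), ∃ q ∈ Q, bf (F.mu q) (F.mu s) = p ∧ bf (F.mu q) (F.mu (x * s * x⁻¹)) = p' := by
      intro p p'
      obtain ⟨q, hq, eq⟩ := F.mu_surj (Pi.single 0 (p', p))
      exact ⟨q, hq, by rw [C.std.vec, bf_one6, eq]; simp [tot], by rw [C.mu_s', bf_om_one6, eq]; simp [tot]⟩
    have hs'Qs : x * s * x⁻¹ ∈ Qs := C.line_le_Qs C.s'_line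
    have hzv : Fs.mu z ≠ 0 := Fs.mu_ne_zero hzQs F.z_ne (Ne.symm C.std.link.ne)
    have hs'v : Fs.mu (x * s * x⁻¹) ≠ 0 := by
      intro h
      rcases (Fs.mu_eq_zero _ hs'Qs).1 h with e | e
      · have := congrArg F.mu e
        rw [C.mu_s', F.mu_one] at this
        exact absurd this (by decide)
      · have := congrArg F.mu e
        rw [C.mu_s', C.std.vec] at this
        exact absurd this (by decide)
    have hne : Fs.mu (x * s * x⁻¹) ≠ Fs.mu z := by
      intro h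
      rcases (Fs.mu_eq_iff hs'Qs hzQs).1 h with e | e
      · have := congrArg F.mu e
        rw [C.mu_s', F.mu_z] at this
        exact absurd this (by decide)
      · have := congrArg F.mu e
        rw [C.mu_s', F.mu_mul _ F.z_mem _ hsQ, F.mu_z, zero_add, C.std.vec] at this
        exact absurd this (by decide)
    refine eq_top_of_gens ?_ ?_ ?_ ?_ ?_
    · obtain ⟨q, hq, b1, b2⟩ := hbq 1 0
      refine key q _ (hQN q hq) _ ?_ ?_ ?_
      · rw [hzc q hq, C.ev_of _ 1 0 0 (by decide) (by decide) (by decide)]; simp [ZMod.val_one]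
      · rw [C.act_Q hq hsQ b1, C.ev_of _ 1 1 0 (by decide) (by decide) (by decide)]
        simp [ZMod.val_one, (F.le_cent s hsQ).eq]
      · rw [C.act_Q hq C.s'_memQ b2, C.ev_of _ 0 0 1 (by decide) (by decide) (by decide)]; simp [ZMod.val_one]
    · obtain ⟨q, hq, b1, b2⟩ := hbq 0 1
      refine key q _ (hQN q hq) _ ?_ ?_ ?_
      · rw [hzc q hq, C.ev_of _ 1 0 0 (by decide) (by decide) (by decide)]; simp [ZMod.val_one]
      · rw [C.act_Q hq hsQ b1, C.ev_of _ 0 1 0 (by decide) (by decide) (by decide)]; simp [ZMod.val_one]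
      · rw [C.act_Q hq C.s'_memQ b2, C.ev_of _ 1 0 1 (by decide) (by decide) (by decide)]
        simp [ZMod.val_one, (F.le_cent _ C.s'_memQ).eq]
    · obtain ⟨u, hu1, hu2⟩ := C.exists_sep hs'v hzv hne.symm
      obtain ⟨q, hq, rfl⟩ := Fs.mu_surj u
      refine key q _ (hQsN q hq) _ ?_ ?_ ?_
      · rw [C.act_Qs hq hzQs hu2, C.ev_of _ 1 1 0 (by decide) (by decide) (by decide)]; simp [ZMod.val_one]
      · rw [hsc q hq, C.ev_of _ 0 1 0 (by decide) (by decide) (by decide)]; simp [ZMod.val_one]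
      · rw [C.act_Qs hq hs'Qs hu1, C.ev_of _ 0 0 1 (by decide) (by decide) (by decide)]; simp [ZMod.val_one]
    · obtain ⟨u, hu1, hu2⟩ := C.exists_sep hzv hs'v hne
      obtain ⟨q, hq, rfl⟩ := Fs.mu_surj u
      refine key q _ (hQsN q hq) _ ?_ ?_ ?_
      · rw [C.act_Qs hq hzQs hu1, C.ev_of _ 1 0 0 (by decide) (by decide) (by decide)]; simp [ZMod.val_one]
      · rw [hsc q hq, C.ev_of _ 0 1 0 (by decide) (by decide) (by decide)]; simp [ZMod.val_one]
      · rw [C.act_Qs hq hs'Qs hu2, C.ev_of _ 0 1 1 (by decide) (by decide) (by decide)]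
        simp [ZMod.val_one, (C.line_comm C.s_line C.s'_line).eq]
    · have hz' : x * z * x⁻¹ = z := by rw [C.xc.eq, mul_inv_cancel_right]
      have hb : x * (x * s * x⁻¹) * x⁻¹ ∈ Q := F.normal x C.xc _ C.s'_memQ
      have hm : F.mu (x * (x * s * x⁻¹) * x⁻¹) = F.mu (s * (x * s * x⁻¹)) := by
        rw [F.pi_mu x C.xc _ C.s'_memQ, C.mu_s', C.xact, F.mu_mul _ hsQ _ C.s'_memQ, C.std.vec, C.mu_s', one_add_om]
      rcases (F.mu_eq_iff hb (mul_mem hsQ C.s'_memQ)).1 hm with e | e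
      · left
        refine key x _ hxN _ ?_ ?_ ?_
        · rw [hz', C.ev_of _ 1 0 0 (by decide) (by decide) (by decide)]; simp [ZMod.val_one]
        · rw [C.ev_of _ 0 0 1 (by decide) (by decide) (by decide)]; simp [ZMod.val_one]
        · rw [e, C.ev_of _ 0 1 1 (by decide) (by decide) (by decide)]; simp [ZMod.val_one]
      · right
        refine key x _ hxN _ ?_ ?_ ?_
        · rw [hz', C.ev_of _ 1 0 0 (by decide) (by decide) (by decide)]; simp [ZMod.val_one]
        · rw [C.ev_of _ 0 0 1 (by decide) (by decide) (by decide)]; simp [ZMod.val_one]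
        · rw [e, C.ev_of _ 1 1 1 (by decide) (by decide) (by decide)]
          simp only [ZMod.val_one, pow_one]
          rw [← (F.le_cent _ (mul_mem hsQ C.s'_memQ)).symm.eq]
          simp only [mul_assoc]
  have hker : ∀ (k : C.cenV), (⟨(k : G), C.cenV_le_nor k.2⟩ : C.nor) ∈ N → φ k = 1 := fun k hk =>
    no_center _ fun b => by
      obtain ⟨k', rfl⟩ := hφ b
      have h1 := hk k'
      rw [show act ⟨(k : G), C.cenV_le_nor k.2⟩ k' = k * k' * k⁻¹ from rfl, map_mul, map_mul, map_inv,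
        mul_inv_eq_iff_eq_mul] at h1
      exact h1
  have hdec : ∀ l : C.nor, ∃ (n : C.nor) (k : C.cenV), n ∈ N ∧ (l : G) = n * k := by
    intro l
    obtain ⟨n, hn, e⟩ : ψ l ∈ N.map ψ := htop ▸ Subgroup.mem_top _
    have h : n⁻¹ * l ∈ ψ.ker := by rw [MonoidHom.mem_ker, map_mul, map_inv, e, inv_mul_cancel]
    rw [hψk] at h
    exact ⟨n, ⟨((n⁻¹ * l : C.nor) : G), h⟩, hn, by
      show (l : G) = n * ((n⁻¹ * l : C.nor) : G)
      rw [Subgroup.coe_mul, Subgroup.coe_inv, mul_inv_cancel_left]⟩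
  choose n k hn hk using hdec
  have uniq : ∀ (n n' : C.nor) (k k' : C.cenV), n ∈ N → n' ∈ N → (n : G) * k = n' * k' → φ k = φ k' := by
    intro n n' k k' hn hn' e
    have h1 : (⟨((k' * k⁻¹ : C.cenV) : G), C.cenV_le_nor (k' * k⁻¹).2⟩ : C.nor) ∈ N := by
      have : (⟨((k' * k⁻¹ : C.cenV) : G), C.cenV_le_nor (k' * k⁻¹).2⟩ : C.nor) = n'⁻¹ * n := Subtype.ext (by
        show (k' : G) * (k : G)⁻¹ = (n' : G)⁻¹ * n
        rw [eq_inv_mul_iff_mul_eq, ← mul_assoc, ← e, mul_inv_cancel_right])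
      rw [this]; exact mul_mem (inv_mem hn') hn
    have h2 := hker _ h1
    rw [map_mul, map_inv, mul_inv_eq_one] at h2
    exact h2.symm
  let χ : C.nor →* alternatingGroup (Fin 6) := MonoidHom.mk' (fun l => φ (k l)) fun a b => by
    have h1 := uniq (n (a * b)) (n a * n b) (k (a * b)) (act (n b)⁻¹ (k a) * k b) (hn _)
      (mul_mem (hn a) (hn b)) (by
        rw [← hk, Subgroup.coe_mul, Subgroup.coe_mul, Subgroup.coe_mul, hk a, hk b]
        simp [act, mul_assoc])
    rw [h1, map_mul, inv_mem (hn b) (k a)]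
  have hχ : ∀ (l m : C.nor) (k' : C.cenV), m ∈ N → (l : G) = m * k' → χ l = φ k' := fun l m k' hm e =>
    uniq _ m _ k' (hn l) hm ((hk l).symm.trans e)
  refine ⟨ψ.prod χ, fun ⟨A, a⟩ => ?_, ?_⟩
  · obtain ⟨m, hm, rfl⟩ : A ∈ N.map ψ := htop ▸ Subgroup.mem_top _
    obtain ⟨k', rfl⟩ := hφ a
    refine ⟨m * ⟨(k' : G), C.cenV_le_nor k'.2⟩, ?_⟩
    have h0 : (⟨(k' : G), C.cenV_le_nor k'.2⟩ : C.nor) ∈ ψ.ker := by rw [hψk]; exact k'.2
    refine Prod.ext ?_ (hχ _ m k' hm (by rw [Subgroup.coe_mul]))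
    show ψ (m * _) = ψ m
    rw [map_mul, MonoidHom.mem_ker.1 h0, mul_one]
  · ext l
    rw [MonoidHom.mem_ker, MonoidHom.prod_apply, Prod.mk_eq_one, Subgroup.mem_subgroupOf]
    constructor
    · rintro ⟨h1, h2⟩
      rw [← MonoidHom.mem_ker, hψk] at h1
      rw [hχ l 1 ⟨(l : G), h1⟩ (one_mem _) (by rw [OneMemClass.coe_one, one_mul]), ← MonoidHom.mem_ker, hφk] at h2
      exact h2
    · intro h
      refine ⟨?_, ?_⟩
      · rw [← MonoidHom.mem_ker, hψk]; exact C.core_le h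
      · rw [hχ l 1 ⟨(l : G), C.core_le h⟩ (one_mem _) (by rw [OneMemClass.coe_one, one_mul]), ← MonoidHom.mem_ker, hφk]
        exact h

end Cfg

end Cfsg.Agent.LFType5
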