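import Cfsg.Agent.LFType5.Basic
import Cfsg.Agent.LFType23.Triple
import Cfsg.Agent.Lib.Thompson.Cores
import Cfsg.Agent.Lib.LinearGroup.Generation

/-!
The normalizer of the elementary subgroup of order eight: special 2-core and quotient (helper5).
-/
set_option autoImplicit false

namespace Cfsg.Agent.LFType5

open Cfsg Cfsg.Agent.LFType23
open Matrix
open scoped commutatorElement

theorem val_add_pow {G : Type*} [Group G] {a : G} (ha : a * a = 1) (u v : ZMod 2) :
    a ^ (u + v).val = a ^ u.val * a ^ v.val := by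
  rcases (by decide : ∀ y : ZMod 2, y = 0 ∨ y = 1) u with rfl | rfl <;>
    rcases (by decide : ∀ y : ZMod 2, y = 0 ∨ y = 1) v with rfl | rfl <;>
    simp [ZMod.val_one, show (1 : ZMod 2) + 1 = 0 from rfl, ha]

theorem no_center : ∀ a : alternatingGroup (Fin 6), (∀ b, a * b = b * a) → a = 1 := by
  intro a ha
  have hs : IsSimpleGroup (alternatingGroup (Fin 6)) := alternatingGroup.isSimpleGroup (by simp)
  rcases hs.eq_bot_or_eq_top_of_normal (Subgroup.center (alternatingGroup (Fin 6))) inferInstance with h | h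
  · rw [← Subgroup.mem_bot, ← h, Subgroup.mem_center_iff]
    exact fun b => (ha b).symm
  · exfalso
    have h1 : (⟨Equiv.swap 0 1 * Equiv.swap 1 2, Equiv.Perm.mem_alternatingGroup.2 (by decide)⟩ : alternatingGroup (Fin 6)) ∈ Subgroup.center _ :=
      h ▸ Subgroup.mem_top _
    have h2 := congrArg Subtype.val
      (Subgroup.mem_center_iff.1 h1 ⟨Equiv.swap 0 1 * Equiv.swap 1 3, Equiv.Perm.mem_alternatingGroup.2 (by decide)⟩)
    exact absurd (congrArg (fun p : Equiv.Perm (Fin 6) => p 0) h2) (by decide)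

theorem normal_two_bot (N : Subgroup (alternatingGroup (Fin 6))) [N.Normal] (hN : IsPGroup 2 N) : N = ⊥ := by
  have hs : IsSimpleGroup (alternatingGroup (Fin 6)) := alternatingGroup.isSimpleGroup (by simp)
  rcases hs.eq_bot_or_eq_top_of_normal N inferInstance with h | h
  · exact h
  · exfalso
    obtain ⟨n, hn⟩ := hN.exists_card_eq
    rw [h, Subgroup.card_top, nat_card_alternatingGroup, Nat.card_fin] at hn
    have h3 : 3 ∣ 2 ^ n := by rw [← hn]; norm_num [Nat.factorial]
    exact absurd (Nat.prime_three.dvd_of_dvd_pow h3) (by norm_num)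

namespace Cfg

variable {G : Type*} [Group G] [Finite G] {z s : G} {Q Qs : Subgroup G}
variable {F : Frame z Q} {Fs : Frame s Qs} {γ : ZMod 3} {x : G} (C : Cfg F Fs γ x)
include C

/-- The normalizer of the elementary subgroup. -/
abbrev nor (_C : Cfg F Fs γ x) : Subgroup G := Subgroup.normalizer (line F : Set G)

theorem mem_nor_of {g : G} (h : ∀ a ∈ line F, g * a * g⁻¹ ∈ line F) : g ∈ C.nor := by
  have hle : (line F).map (MulAut.conj g).toMonoidHom ≤ line F := by
    rintro _ ⟨a, ha, rfl⟩; exact h a ha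
  have e : (line F).map (MulAut.conj g).toMonoidHom = line F :=
    Subgroup.eq_of_le_of_card_ge hle (le_of_eq
      (Subgroup.card_map_of_injective (MulAut.conj g).injective).symm)
  rw [Subgroup.mem_normalizer_iff]
  intro a
  refine ⟨h a, fun ha => ?_⟩
  have ha' : g * a * g⁻¹ ∈ line F := ha
  rw [← e] at ha'
  obtain ⟨b, hb, eb⟩ := ha'
  rwa [(MulAut.conj g).injective (a₁ := b) (a₂ := a) eb] at hb

theorem conj_line {g a : G} (hg : g ∈ C.nor) (ha : a ∈ line F) : g * a * g⁻¹ ∈ line F :=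
  (Subgroup.mem_normalizer_iff.1 hg a).1 ha

theorem Q_le_nor : Q ≤ C.nor := fun q hq => C.mem_nor_of fun a ha => by
  rw [F.comm q hq a ha.1]
  split_ifs
  exacts [ha, mul_mem ha C.z_line]

theorem Qs_le_nor : Qs ≤ C.nor := fun q hq => C.mem_nor_of fun a ha => by
  rw [Fs.comm q hq a (C.line_le_Qs ha)]
  split_ifs
  exacts [ha, mul_mem ha C.s_line]

theorem x_mem_nor : x ∈ C.nor := C.mem_nor_of fun a ha => by
  obtain ⟨haQ, c, hc⟩ := ha
  exact ⟨F.normal x C.xc a haQ, om1 c, by
    rw [F.pi_mu x C.xc a haQ, hc, C.xact]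
    funext i
    have : ∀ c a : F4, om1 (fm c a) = fm (om1 c) a := by decide
    exact this _ _⟩

theorem cenV_le_nor : C.cenV ≤ C.nor := fun k hk => C.mem_nor_of fun a ha => by
  rw [(C.comm_line hk ha).eq, mul_inv_cancel_right]; exact ha

theorem conj_cenV {g k : G} (hg : g ∈ C.nor) (hk : k ∈ C.cenV) : g * k * g⁻¹ ∈ C.cenV := by
  rw [cenV, Subgroup.mem_centralizer_iff]
  intro a ha
  have h1 := C.comm_line hk (C.conj_line (inv_mem hg) ha)
  have h2 := h1.map (MulAut.conj g).toMonoidHom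
  simp only [MulEquiv.coe_toMonoidHom, MulAut.conj_apply,
    show g * (g⁻¹ * a * g⁻¹⁻¹) * g⁻¹ = a by group] at h2
  exact h2.symm.eq

/-- A 2-subgroup of the centraliser normalised by it lies in the core. -/
theorem two_le_core {O : Subgroup G} (hle : O ≤ C.cenV) (hn : ∀ k ∈ C.cenV, ∀ o ∈ O, k * o * k⁻¹ ∈ O)
    (h2 : IsPGroup 2 O) : O ≤ C.core := by
  obtain ⟨φ, hs, hk⟩ := C.exists_phi
  haveI : (O.subgroupOf C.cenV).Normal := ⟨fun o ho k => hn k k.2 o ho⟩
  haveI : ((O.subgroupOf C.cenV).map φ).Normal := Subgroup.Normal.map inferInstance φ hs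
  have hP : IsPGroup 2 ((O.subgroupOf C.cenV).map φ) :=
    (h2.of_equiv (Subgroup.subgroupOfEquivOfLe hle).symm).map φ
  have hb := normal_two_bot _ hP
  intro o ho
  have : φ ⟨o, hle ho⟩ ∈ (O.subgroupOf C.cenV).map φ := ⟨⟨o, hle ho⟩, ho, rfl⟩
  rw [hb, Subgroup.mem_bot, ← MonoidHom.mem_ker, hk] at this
  exact this

theorem core_conj {g r : G} (hg : g ∈ C.nor) (hr : r ∈ C.core) : g * r * g⁻¹ ∈ C.core := by
  obtain ⟨φ, hs, hk⟩ := C.exists_phi
  have hn : ∀ k ∈ C.cenV, ∀ r ∈ C.core, k * r * k⁻¹ ∈ C.core := fun k hk' r hr => by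
    have h1 : (⟨r, C.core_le hr⟩ : C.cenV) ∈ φ.ker := by rw [hk]; exact hr
    have h2 := (MonoidHom.normal_ker φ).conj_mem _ h1 ⟨k, hk'⟩
    rw [hk] at h2
    exact h2
  refine C.two_le_core (O := C.core.map (MulAut.conj g).toMonoidHom) ?_ ?_ (C.isPGroup_core.map _) ⟨r, hr, rfl⟩
  · rintro _ ⟨r, hr, rfl⟩
    exact C.conj_cenV hg (C.core_le hr)
  · rintro k hk' _ ⟨r, hr, rfl⟩
    refine ⟨g⁻¹ * k * g * r * (g⁻¹ * k * g)⁻¹, hn _ ?_ r hr, ?_⟩
    · have := C.conj_cenV (inv_mem hg) hk'
      rwa [inv_inv] at this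
    · simp only [MulEquiv.coe_toMonoidHom, MulAut.conj_apply]; group

theorem line_le_nor : line F ≤ C.nor := fun a ha => C.Q_le_nor ha.1

/-- An invariant subgroup containing a nontrivial element of the line contains the line. -/
theorem invariant_eq {X : Subgroup G} (hn : ∀ g ∈ C.nor, ∀ a ∈ X, a ∈ line F → g * a * g⁻¹ ∈ X) {a : G}
    (ha : a ∈ X) (hal : a ∈ line F) (ha1 : a ≠ 1) : line F ≤ X := by
  have hz : z ∈ X := by
    by_cases e : a = z
    · exact e ▸ ha
    · obtain ⟨haQ, c, hc⟩ := hal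
      obtain ⟨q, hq, eq⟩ := F.exists_flip haQ (F.mu_ne_zero haQ ha1 e)
      have h1 := hn q (C.Q_le_nor hq) a ha ⟨haQ, c, hc⟩
      rw [eq] at h1
      have := mul_mem (inv_mem ha) h1
      rwa [inv_mul_cancel_left] at this
  have hs : s ∈ X := by
    have hzQ := C.std.link.z_mem
    obtain ⟨q, hq, eq⟩ := Fs.exists_flip hzQ (Fs.mu_ne_zero hzQ F.z_ne (Ne.symm C.std.link.ne))
    have h1 := hn q (C.Qs_le_nor hq) z hz C.z_line
    rw [eq] at h1
    have := mul_mem (inv_mem hz) h1
    rwa [inv_mul_cancel_left] at this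
  have hs' := hn x C.x_mem_nor s hs C.s_line
  intro b hb
  obtain ⟨b', hbb, hb'⟩ := C.line_cases hb
  have : b' ∈ X := by
    rcases hb' with rfl | rfl | rfl | rfl
    exacts [one_mem _, hs, hs', mul_mem hs hs']
  rcases hbb with rfl | rfl
  exacts [this, mul_mem this hz]

theorem line_le_commutator : line F ≤ ⁅C.core, C.core⁆ := by
  refine C.invariant_eq (fun g hg a ha _ => ?_) C.z_mem_comm C.z_line F.z_ne
  have e : C.core.map (MulAut.conj g).toMonoidHom ≤ C.core := by
    rintro _ ⟨r, hr, rfl⟩; exact C.core_conj hg hr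
  have h1 : (MulAut.conj g).toMonoidHom a ∈ ⁅C.core, C.core⁆.map (MulAut.conj g).toMonoidHom :=
    Subgroup.mem_map_of_mem _ ha
  rw [Subgroup.map_commutator] at h1
  exact Subgroup.commutator_mono e e h1

theorem center_map : (Subgroup.center C.core).map C.core.subtype = line F := by
  refine le_antisymm ?_ fun a ha => ?_
  · rintro _ ⟨r, hr, rfl⟩
    exact C.center_core r.2 fun t ht =>
      (congrArg Subtype.val (Subgroup.mem_center_iff.1 hr ⟨t, ht⟩)).symm
  · exact ⟨⟨a, C.line_le_core ha⟩, Subgroup.mem_center_iff.2 fun t =>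
      Subtype.ext (C.comm_line (C.core_le t.2) ha).eq, rfl⟩

theorem isSpecial_core : Cfsg.IsSpecial 2 C.core := by
  have hc : commutator C.core = Subgroup.center C.core := by
    apply Subgroup.map_injective C.core.subtype_injective
    rw [Subgroup.map_subtype_commutator, C.center_map]
    exact le_antisymm (Subgroup.commutator_le.2 fun r hr t ht => C.comm_core hr ht) C.line_le_commutator
  refine ⟨C.isPGroup_core, le_antisymm ?_ ?_, hc⟩
  · refine PGroup.frattini_le_of_quotient (p := 2) hc.le fun r => ?_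
    have h1 : ((r ^ 2 : C.core) : G) ∈ (Subgroup.center C.core).map C.core.subtype := by
      rw [C.center_map, Subgroup.coe_pow, pow_two]; exact C.sq_core r.2
    obtain ⟨r', hr', e⟩ := h1
    exact (Subtype.ext e : r' = r ^ 2) ▸ hr'
  · rw [← hc]; exact PGroup.commutator_le_frattini C.isPGroup_core

theorem pCore_eq : (Cfsg.pCore 2 C.nor).map C.nor.subtype = C.core := by
  set O := (Cfsg.pCore 2 C.nor).map C.nor.subtype with hOd
  have hOn : O ≤ C.nor := Subgroup.map_subtype_le _
  have hO2 : IsPGroup 2 O := (Thompson.isPGroup_pCore).map _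
  have hconj : ∀ g ∈ C.nor, ∀ o ∈ O, g * o * g⁻¹ ∈ O := by
    rintro g hg _ ⟨o, ho, rfl⟩
    exact ⟨⟨g, hg⟩ * o * ⟨g, hg⟩⁻¹,
      (inferInstance : (Cfsg.pCore 2 C.nor).Normal).conj_mem o ho ⟨g, hg⟩, rfl⟩
  have hcore : C.core ≤ C.nor := C.core_le.trans C.cenV_le_nor
  refine le_antisymm ?_ ?_
  · have hlO : line F ≤ O := fun a ha => by
      haveI : ((line F).subgroupOf C.nor).Normal := ⟨fun b hb g => C.conj_line g.2 hb⟩
      exact ⟨⟨a, C.line_le_nor ha⟩, Thompson.le_pCore inferInstance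
        ((C.isPGroup_core.to_le C.line_le_core).of_equiv (Subgroup.subgroupOfEquivOfLe C.line_le_nor).symm) ha, rfl⟩
    haveI : ((line F).subgroupOf O).Normal := ⟨fun b hb g => C.conj_line (hOn g.2) hb⟩
    have hne : (line F).subgroupOf O ≠ ⊥ := fun e => by
      have : (⟨z, hlO C.z_line⟩ : O) ∈ (line F).subgroupOf O := C.z_line
      rw [e, Subgroup.mem_bot] at this
      exact F.z_ne (congrArg Subtype.val this)
    obtain ⟨⟨a, haO⟩, ⟨hal, hac⟩, ha1⟩ :=
      (Subgroup.ne_bot_iff_exists_ne_one.1 (PGroup.inf_center_ne_bot hO2 hne)) |> fun ⟨w, hw⟩ =>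
        (⟨w.1, w.2, fun e => hw (Subtype.ext e)⟩ : ∃ a : O, a ∈ (line F).subgroupOf O ⊓ Subgroup.center O ∧ a ≠ 1)
    have hX : line F ≤ Subgroup.centralizer (O : Set G) := by
      refine C.invariant_eq (fun g hg b hb _ => ?_)
        (Subgroup.mem_centralizer_iff.2 fun o ho => congrArg Subtype.val (Subgroup.mem_center_iff.1 hac ⟨o, ho⟩))
        hal fun e => ha1 (Subtype.ext e)
      rw [Subgroup.mem_centralizer_iff] at hb ⊢
      intro o ho
      have h1 := hb _ (hconj g⁻¹ (inv_mem hg) o ho)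
      have h2 := congrArg (fun y => g * y * g⁻¹) h1
      simp only [mul_assoc] at h2 ⊢
      simpa [mul_assoc] using h2
    have hOK : O ≤ C.cenV := fun o ho => by
      rw [cenV, Subgroup.mem_centralizer_iff]
      intro a ha
      exact (Subgroup.mem_centralizer_iff.1 (hX ha) o ho).symm
    exact C.two_le_core hOK (fun k hk => hconj k (C.cenV_le_nor hk)) hO2
  · intro r hr
    haveI : (C.core.subgroupOf C.nor).Normal := ⟨fun b hb g => C.core_conj g.2 hb⟩
    exact ⟨⟨r, hcore hr⟩, Thompson.le_pCore inferInstance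
      (C.isPGroup_core.of_equiv (Subgroup.subgroupOfEquivOfLe hcore).symm) hr, rfl⟩

/-- Coordinates on the line. -/
def ev (_C : Cfg F Fs γ x) (c : Fin 3 → ZMod 2) : G :=
  z ^ (c 0).val * s ^ (c 1).val * (x * s * x⁻¹) ^ (c 2).val

theorem ev_mem (c : Fin 3 → ZMod 2) : C.ev c ∈ line F :=
  mul_mem (mul_mem (pow_mem C.z_line _) (pow_mem C.s_line _)) (pow_mem C.s'_line _)

theorem ev_add (c d : Fin 3 → ZMod 2) : C.ev (c + d) = C.ev c * C.ev d := by
  simp only [ev, Pi.add_apply, val_add_pow F.z_sq, val_add_pow (C.line_sq C.s_line),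
    val_add_pow (C.line_sq C.s'_line)]
  set a := z ^ (c 0).val
  set b := s ^ (c 1).val
  set e := (x * s * x⁻¹) ^ (c 2).val
  set a' := z ^ (d 0).val
  set b' := s ^ (d 1).val
  set e' := (x * s * x⁻¹) ^ (d 2).val
  have hb : Commute b a' := C.line_comm (pow_mem C.s_line _) (pow_mem C.z_line _)
  have he : Commute e (a' * b') := C.line_comm (pow_mem C.s'_line _) (mul_mem (pow_mem C.z_line _) (pow_mem C.s_line _))
  calc a * a' * (b * b') * (e * e') = a * (a' * b) * b' * e * e' := by simp only [mul_assoc]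
    _ = a * b * (a' * b' * e) * e' := by rw [← hb.eq]; simp only [mul_assoc]
    _ = a * b * e * (a' * b' * e') := by rw [← he.eq]; simp only [mul_assoc]

theorem exists_coords : ∃ E : (Fin 3 → ZMod 2) ≃ line F, ∀ c, (E c : G) = C.ev c := by
  refine ⟨Equiv.ofBijective (fun c => ⟨C.ev c, C.ev_mem c⟩) ((Nat.bijective_iff_injective_and_card _).2 ⟨?_, ?_⟩),
    fun c => rfl⟩
  · intro c d e
    have h : C.ev (c + d) = 1 := by
      have e' : C.ev c = C.ev d := congrArg Subtype.val e
      rw [C.ev_add, e', C.line_sq (C.ev_mem d)]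
    have key : ∀ w : Fin 3 → ZMod 2, C.ev w = 1 → w = 0 := by
      intro w hw
      have hp : ∀ (y : G) (u : ZMod 2), y ^ u.val = if u = 0 then 1 else y := fun y u => by
        rcases (by decide : ∀ y : ZMod 2, y = 0 ∨ y = 1) u with rfl | rfl <;> simp [ZMod.val_one]
      have h1 := congrArg F.mu hw
      simp only [ev, hp] at h1 hw
      rcases (by decide : ∀ y : ZMod 2, y = 0 ∨ y = 1) (w 0) with a | a <;>
        rcases (by decide : ∀ y : ZMod 2, y = 0 ∨ y = 1) (w 1) with b | b <;>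
        rcases (by decide : ∀ y : ZMod 2, y = 0 ∨ y = 1) (w 2) with e | e <;>
        simp [a, b, e, F.mu_one, F.mu_z, F.mu_mul _ F.z_mem _ C.std.link.mem, F.mu_mul _ F.z_mem _ C.s'_memQ,
          F.mu_mul _ C.std.link.mem _ C.s'_memQ,
          F.mu_mul _ (mul_mem F.z_mem C.std.link.mem) _ C.s'_memQ, C.std.vec, C.mu_s'] at h1 hw
      all_goals first
        | exact absurd h1 (by decide)
        | exact absurd hw F.z_ne
        | (funext i; fin_cases i <;> assumption)
    have h0 := key _ h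
    funext i
    have h2 := congrFun h0 i
    have : ∀ u v : ZMod 2, u + v = 0 → u = v := by decide
    exact this _ _ h2
  · rw [C.card_line, Nat.card_eq_fintype_card]; simp [Fintype.card_pi, ZMod.card]

end Cfg

end Cfsg.Agent.LFType5
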